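import Mathlib

set_option autoImplicit false

namespace Cfsg.Agent.Lib.Helper6

variable {G : Type*} [Group G]

theorem invol_iff {t : G} : orderOf t = 2 ↔ t * t = 1 ∧ t ≠ 1 := by
  have : Fact (Nat.Prime 2) := ⟨Nat.prime_two⟩
  rw [orderOf_eq_prime_iff, pow_two]

theorem invol_mul_self {t : G} (h : orderOf t = 2) : t * t = 1 := (invol_iff.mp h).1

theorem invol_ne_one {t : G} (h : orderOf t = 2) : t ≠ 1 := (invol_iff.mp h).2

theorem invol_inv {t : G} (h : orderOf t = 2) : t⁻¹ = t :=
  inv_eq_of_mul_eq_one_left (invol_mul_self h)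

theorem invol_sq {t : G} (h : orderOf t = 2) : t ^ 2 = 1 := by
  rw [pow_two]; exact invol_mul_self h

theorem invol_conj {t : G} (h : orderOf t = 2) (g : G) : orderOf (g * t * g⁻¹) = 2 := by
  rw [invol_iff] at h ⊢
  refine ⟨?_, ?_⟩
  · have : g * t * g⁻¹ * (g * t * g⁻¹) = g * (t * t) * g⁻¹ := by group
    rw [this, h.1]; group
  · intro h1
    apply h.2
    have : t = g⁻¹ * (g * t * g⁻¹) * g := by group
    rw [this, h1]; group

/-- the first factor of a product of two involutions inverts the product -/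
theorem invol_pair_inverts {u v : G} (hu : orderOf u = 2) (hv : orderOf v = 2) :
    u * (u * v) * u⁻¹ = (u * v)⁻¹ := by
  rw [mul_inv_rev, invol_inv hu, invol_inv hv, ← mul_assoc, invol_mul_self hu, one_mul]

theorem invol_pair_inverts' {u v : G} (hu : orderOf u = 2) (hv : orderOf v = 2) :
    v * (u * v) * v⁻¹ = (u * v)⁻¹ := by
  rw [mul_inv_rev, invol_inv hu, invol_inv hv, mul_assoc, mul_assoc, invol_mul_self hv, mul_one]

theorem conj_pow_of_inverts {t x : G} (h : t * x * t⁻¹ = x⁻¹) (n : ℕ) :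
    t * x ^ n * t⁻¹ = (x ^ n)⁻¹ := by
  rw [← conj_pow, h, inv_pow]

/-- two involutions whose product has odd order are conjugate -/
theorem invol_isConj_of_odd {s t : G} (hs : orderOf s = 2) (ht : orderOf t = 2)
    (hodd : Odd (orderOf (s * t))) : IsConj s t := by
  obtain ⟨k, hk⟩ := hodd
  have h1 : (s * t) ^ (2 * k + 1) = 1 := by rw [← hk]; exact pow_orderOf_eq_one _
  have h2 : t * (s * t) ^ (k + 1) * t⁻¹ = ((s * t) ^ (k + 1))⁻¹ :=
    conj_pow_of_inverts (invol_pair_inverts' hs ht) _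
  rw [isConj_comm, isConj_iff]
  refine ⟨(s * t) ^ (k + 1), ?_⟩
  have h3 : t * ((s * t) ^ (k + 1))⁻¹ = (s * t) ^ (k + 1) * t := by
    have : t * ((s * t) ^ (k + 1))⁻¹ * t⁻¹ = (s * t) ^ (k + 1) := by
      have := congrArg (fun y => y⁻¹) h2
      simp only [mul_inv_rev, inv_inv] at this
      rw [← mul_assoc] at this
      exact this
    exact mul_inv_eq_iff_eq_mul.mp this
  rw [mul_assoc, h3, ← mul_assoc, ← pow_add]
  have h4 : k + 1 + (k + 1) = (2 * k + 1) + 1 := by ring
  rw [h4, pow_succ, h1, one_mul, mul_assoc, invol_mul_self ht, mul_one]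

/-- if the product of two involutions has even order `2 * m`, its `m`-th power is an
involution commuting with both -/
theorem invol_central_of_even {s t : G} (hs : orderOf s = 2) (ht : orderOf t = 2) {m : ℕ}
    (hm : orderOf (s * t) = 2 * m) (hm0 : m ≠ 0) :
    orderOf ((s * t) ^ m) = 2 ∧ Commute s ((s * t) ^ m) ∧ Commute t ((s * t) ^ m) := by
  have h1 : orderOf ((s * t) ^ m) = 2 := by
    rw [orderOf_pow' _ hm0, hm, Nat.gcd_eq_right (Dvd.intro_left 2 rfl)]
    exact Nat.mul_div_cancel _ (Nat.pos_of_ne_zero hm0)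
  refine ⟨h1, ?_, ?_⟩
  · have := conj_pow_of_inverts (invol_pair_inverts hs ht) m
    rw [invol_inv h1] at this
    exact (mul_inv_eq_iff_eq_mul.mp this)
  · have := conj_pow_of_inverts (invol_pair_inverts' hs ht) m
    rw [invol_inv h1] at this
    exact (mul_inv_eq_iff_eq_mul.mp this)

end Cfsg.Agent.Lib.Helper6
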