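import Mathlib
import Cfsg.Agent.Lib.Helper6.SLGen

/-!
Building a homomorphism from a multiplicative relation.
-/

namespace Cfsg.Agent.Lib.Helper6
open Matrix

theorem exists_hom_of_rel {G H : Type*} [Group G] [Group H] (R : G → H → Prop)
    (hmul : ∀ g g' a a', R g a → R g' a' → R (g * g') (a * a'))
    (huniq : ∀ g a a', R g a → R g a' → a = a')
    (hex : ∀ g, ∃ a, R g a) : ∃ f : G →* H, ∀ g, R g (f g) := by
  classical
  choose f hf using hex
  exact ⟨MonoidHom.mk' f (fun g g' => huniq _ _ _ (hf _) (hmul _ _ _ _ (hf g) (hf g'))), hf⟩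

/-- version for special linear groups: it suffices to treat the transvections -/
theorem exists_hom_of_rel_SL {ι F : Type*} [Fintype ι] [DecidableEq ι] [Nontrivial ι] [Field F]
    {H : Type*} [Group H] (R : SpecialLinearGroup ι F → H → Prop)
    (hmul : ∀ g g' a a', R g a → R g' a' → R (g * g') (a * a'))
    (huniq : ∀ g a a', R g a → R g a' → a = a')
    (hex : ∀ (i j : ι) (h : i ≠ j) (c : F), ∃ a, R (SpecialLinearGroup.transvection h c) a) :
    ∃ f : SpecialLinearGroup ι F →* H, ∀ g, R g (f g) := by
  apply exists_hom_of_rel R hmul huniq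
  intro g
  induction g using SL_transvection_induction with
  | htransvec i j h c => exact hex i j h c
  | hmul A B hA hB =>
    obtain ⟨a, ha⟩ := hA
    obtain ⟨b, hb⟩ := hB
    exact ⟨a * b, hmul _ _ _ _ ha hb⟩

/-- a nontrivial hom from a simple group to a finite group of the same order is an isomorphism. -/
theorem nonempty_mulEquiv_of_simple {A B : Type*} [Group A] [Group B] [Finite B] [IsSimpleGroup A]
    (f : A →* B) (x : A) (hx : f x ≠ 1) (hc : Nat.card A = Nat.card B) : Nonempty (A ≃* B) := by
  have hk : f.ker = ⊥ := by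
    rcases IsSimpleGroup.eq_bot_or_eq_top_of_normal f.ker inferInstance with h | h
    · exact h
    · exact absurd (MonoidHom.mem_ker.1 (h ▸ Subgroup.mem_top x)) hx
  have hf : Function.Injective f := (MonoidHom.ker_eq_bot_iff f).1 hk
  have : Finite A := Finite.of_injective f hf
  exact ⟨MulEquiv.ofBijective f ((Nat.bijective_iff_injective_and_card f).2 ⟨hf, hc⟩)⟩

end Cfsg.Agent.Lib.Helper6
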