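import Mathlib
import Cfsg.Agent.Lib.Helper6.SLCard

set_option autoImplicit false

namespace Cfsg.Agent.Lib.Helper6

open scoped LinearAlgebra.Projectivization

/-- A group of order `n!/2` embedding in the symmetric group on `n` letters is alternating. -/
theorem mulEquiv_alternatingGroup_of_injective {G : Type*} [Group G] {X : Type*} [Finite X]
    (φ : G →* Equiv.Perm X) (hφ : Function.Injective φ) (n : ℕ) (hX : Nat.card X = n)
    (hG : 2 * Nat.card G = n.factorial) : Nonempty (G ≃* alternatingGroup (Fin n)) := by
  classical
  have := Fintype.ofFinite X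
  have h1 : Nat.card φ.range = Nat.card G := (Nat.card_congr (MonoidHom.ofInjective hφ).toEquiv).symm
  have h2 : Nat.card (Equiv.Perm X) = n.factorial := by
    rw [Nat.card_eq_fintype_card, Fintype.card_perm, ← Nat.card_eq_fintype_card, hX]
  have h3 : φ.range.index = 2 := by
    have h4 := φ.range.card_mul_index
    rw [h1, h2, ← hG, mul_comm] at h4
    have hpos : 0 < Nat.card G := by
      rcases Nat.eq_zero_or_pos (Nat.card G) with h | h
      · rw [h] at hG
        exact absurd hG.symm (Nat.factorial_ne_zero n)
      · exact h
    exact Nat.eq_of_mul_eq_mul_right hpos h4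
  have h5 := Equiv.Perm.eq_alternatingGroup_of_index_eq_two h3
  have e1 : G ≃* φ.range := MonoidHom.ofInjective hφ
  have e2 : φ.range ≃* alternatingGroup X := MulEquiv.subgroupCongr h5
  have e3 : X ≃ Fin n := by
    rw [Nat.card_eq_fintype_card] at hX
    exact Fintype.equivFinOfCardEq hX
  exact ⟨(e1.trans e2).trans (Equiv.altCongrHom e3)⟩

/-- A group of order `n!` embedding in the symmetric group on `n` letters is symmetric. -/
theorem mulEquiv_perm_of_injective {G : Type*} [Group G] {X : Type*} [Finite X]
    (φ : G →* Equiv.Perm X) (hφ : Function.Injective φ) (n : ℕ) (hX : Nat.card X = n)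
    (hG : Nat.card G = n.factorial) : Nonempty (G ≃* Equiv.Perm (Fin n)) := by
  classical
  have := Fintype.ofFinite X
  have h2 : Nat.card (Equiv.Perm X) = n.factorial := by
    rw [Nat.card_eq_fintype_card, Fintype.card_perm, ← Nat.card_eq_fintype_card, hX]
  have hfin : Finite G := Finite.of_injective φ hφ
  have hbij : Function.Bijective φ := by
    rw [Nat.bijective_iff_injective_and_card]
    exact ⟨hφ, by rw [hG, h2]⟩
  have e3 : X ≃ Fin n := by
    rw [Nat.card_eq_fintype_card] at hX
    exact Fintype.equivFinOfCardEq hX
  exact ⟨(MulEquiv.ofBijective φ hbij).trans e3.permCongrHom⟩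

theorem card_projLine {F : Type*} [Field F] [Finite F] :
    Nat.card (ℙ F (Fin 2 → F)) = Nat.card F + 1 :=
  Projectivization.card_of_finrank_two F _ (by simp)

end Cfsg.Agent.Lib.Helper6
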