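import Mathlib
import Cfsg.Agent.Lib.Helper6.Invol

set_option autoImplicit false

namespace Cfsg.Agent.Lib.Helper6

variable {G : Type*} [Group G]

/-- pairs of involutions with product `x` correspond to involutions `t` with `t * x` an involution -/
def pairsEquiv (x : G) :
    {p : G × G // orderOf p.1 = 2 ∧ orderOf p.2 = 2 ∧ p.1 * p.2 = x} ≃
      {t : G // orderOf t = 2 ∧ orderOf (t * x) = 2} where
  toFun p := ⟨p.1.1, p.2.1, by
    obtain ⟨⟨u, v⟩, hu, hv, huv⟩ := p
    simp only at hu hv huv ⊢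
    rw [← huv, ← mul_assoc, invol_mul_self hu, one_mul]; exact hv⟩
  invFun t := ⟨(t.1, t.1 * x), t.2.1, t.2.2, by
    obtain ⟨t, ht, ht2⟩ := t
    simp only
    rw [← mul_assoc, invol_mul_self ht, one_mul]⟩
  left_inv := by
    rintro ⟨⟨u, v⟩, hu, hv, huv⟩
    simp only at hu hv huv
    apply Subtype.ext
    simp only [Prod.mk.injEq, true_and]
    rw [← huv, ← mul_assoc, invol_mul_self hu, one_mul]
  right_inv := by
    rintro ⟨t, ht⟩
    rfl

theorem invol_mul_iff_inverts {t x : G} (ht : orderOf t = 2) (hx : x ^ 2 ≠ 1) :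
    orderOf (t * x) = 2 ↔ t * x * t⁻¹ = x⁻¹ := by
  rw [invol_iff, invol_inv ht]
  constructor
  · rintro ⟨h, -⟩
    have : t * x * t * x = 1 := by rw [← h]; group
    exact eq_inv_of_mul_eq_one_left this
  · intro h
    refine ⟨?_, ?_⟩
    · calc t * x * (t * x) = (t * x * t) * x := by group
        _ = 1 := by rw [h]; group
    · intro h1
      apply hx
      have h2 : x = t⁻¹ := eq_inv_of_mul_eq_one_right h1
      rw [h2, invol_inv ht]; exact invol_sq ht

theorem invol_mul_iff_commute {t x : G} (ht : orderOf t = 2) (hx : orderOf x = 2) :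
    orderOf (t * x) = 2 ↔ Commute t x ∧ t ≠ x := by
  rw [invol_iff]
  constructor
  · rintro ⟨h, h1⟩
    refine ⟨?_, ?_⟩
    · have h2 : t * x = (t * x)⁻¹ := eq_inv_of_mul_eq_one_left h
      rw [mul_inv_rev, invol_inv ht, invol_inv hx] at h2
      exact h2
    · rintro rfl
      exact h1 (invol_mul_self ht)
  · rintro ⟨h, h1⟩
    refine ⟨?_, ?_⟩
    · rw [h.symm.mul_mul_mul_comm, invol_mul_self ht, invol_mul_self hx, one_mul]
    · intro h2
      apply h1
      have : t = x⁻¹ := eq_inv_of_mul_eq_one_left h2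
      rw [this, invol_inv hx]

/-- for every `x`, an involution `t` with `t * x` an involution inverts `x` -/
theorem inverts_of_invol_mul {t x : G} (ht : orderOf t = 2) (h : orderOf (t * x) = 2) :
    t * x * t⁻¹ = x⁻¹ := by
  rw [invol_inv ht]
  have : t * x * t * x = 1 := by rw [← invol_mul_self h]; group
  exact eq_inv_of_mul_eq_one_left this

/-- the set of elements inverting a real element is a coset of the centralizer -/
def invertersEquiv {x g₀ : G} (h0 : g₀ * x * g₀⁻¹ = x⁻¹) :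
    {g : G // g * x * g⁻¹ = x⁻¹} ≃ Subgroup.centralizer ({x} : Set G) where
  toFun g := ⟨g₀⁻¹ * g.1, by
    rw [Subgroup.mem_centralizer_singleton_iff]
    have h1 : g.1 * x = x⁻¹ * g.1 := mul_inv_eq_iff_eq_mul.mp g.2
    have h2 : g₀ * x = x⁻¹ * g₀ := mul_inv_eq_iff_eq_mul.mp h0
    have h3 : g₀⁻¹ * x⁻¹ = x * g₀⁻¹ := by
      rw [inv_mul_eq_iff_eq_mul, ← mul_assoc, h2]; group
    rw [mul_assoc, h1, ← mul_assoc, h3, mul_assoc]⟩
  invFun c := ⟨g₀ * c.1, by
    have hc := Subgroup.mem_centralizer_singleton_iff.mp c.2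
    have : g₀ * c.1 * x * (g₀ * c.1)⁻¹ = g₀ * (c.1 * x) * c.1⁻¹ * g₀⁻¹ := by group
    rw [this, hc, ← h0]; group⟩
  left_inv g := by
    apply Subtype.ext
    simp
  right_inv c := by
    apply Subtype.ext
    simp

end Cfsg.Agent.Lib.Helper6
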