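import Mathlib
import Cfsg.Agent.Lib.Helper6.Pairs

set_option autoImplicit false

namespace Cfsg.Agent.Lib.Helper6

variable {G : Type*} [Group G]

/-- the extended centralizer: elements conjugating `x` to `x` or to `x⁻¹` -/
def extCentralizer (x : G) : Subgroup G where
  carrier := {g | g * x * g⁻¹ = x ∨ g * x * g⁻¹ = x⁻¹}
  one_mem' := by left; simp
  mul_mem' := by
    intro a b ha hb
    have e : a * b * x * (a * b)⁻¹ = a * (b * x * b⁻¹) * a⁻¹ := by group
    have hinv : ∀ y : G, a * x * a⁻¹ = y → a * x⁻¹ * a⁻¹ = y⁻¹ := by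
      intro y hy
      rw [← hy]; group
    simp only [Set.mem_ofPred_eq] at ha hb ⊢
    rw [e]
    rcases hb with hb | hb <;> rcases ha with ha | ha
    · left; rw [hb, ha]
    · right; rw [hb, ha]
    · right; rw [hb, hinv _ ha]
    · left; rw [hb, hinv _ ha, inv_inv]
  inv_mem' := by
    intro a ha
    simp only [Set.mem_ofPred_eq] at ha ⊢
    rcases ha with ha | ha
    · left
      nth_rewrite 1 [← ha]
      group
    · right
      have : x = a * x⁻¹ * a⁻¹ := by
        have := congrArg (fun y => y⁻¹) ha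
        simp only [mul_inv_rev, inv_inv] at this
        rw [← mul_assoc] at this
        exact this.symm
      nth_rewrite 1 [this]
      group

theorem mem_extCentralizer {x g : G} :
    g ∈ extCentralizer x ↔ g * x * g⁻¹ = x ∨ g * x * g⁻¹ = x⁻¹ := Iff.rfl

theorem card_extCentralizer [Finite G] {x g₀ : G} (hx : x ^ 2 ≠ 1) (h0 : g₀ * x * g₀⁻¹ = x⁻¹) :
    Nat.card (extCentralizer x) = 2 * Nat.card (Subgroup.centralizer ({x} : Set G)) := by
  classical
  have hdisj : Disjoint (fun g : G => g * x * g⁻¹ = x) (fun g : G => g * x * g⁻¹ = x⁻¹) := by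
    rw [Pi.disjoint_iff]
    intro g
    rw [Prop.disjoint_iff]
    rintro ⟨h1, h2⟩
    apply hx
    rw [h1] at h2
    rw [pow_two]
    nth_rewrite 1 [h2]
    simp
  have e1 : extCentralizer x ≃ {g : G // g * x * g⁻¹ = x} ⊕ {g : G // g * x * g⁻¹ = x⁻¹} :=
    subtypeOrEquiv _ _ hdisj
  have e2 : {g : G // g * x * g⁻¹ = x} ≃ Subgroup.centralizer ({x} : Set G) :=
    Equiv.subtypeEquivRight (fun g => by
      rw [Subgroup.mem_centralizer_singleton_iff, mul_inv_eq_iff_eq_mul])
  rw [Nat.card_congr e1, Nat.card_sum, Nat.card_congr e2, Nat.card_congr (invertersEquiv h0)]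
  ring

end Cfsg.Agent.Lib.Helper6
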