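import Mathlib
import Cfsg.Prelude.Def_Classical

/-!
Transport of isometries along a ring isomorphism, and homs into isometry groups.
-/

namespace Cfsg.Agent.Lib.Helper6
open Matrix

theorem mem_isometryGroup_iff {ι : Type} [Fintype ι] [DecidableEq ι] {F : Type*} [Field F]
    (Q : (ι → F) → F) (g : Matrix.GeneralLinearGroup ι F) :
    g ∈ Cfsg.isometryGroup F Q ↔ ∀ u, Q ((g : Matrix ι ι F) *ᵥ u) = Q u := by
  constructor
  · intro h u
    exact h u u
  · intro h u _
    exact h u

/-- A monoid hom from a group to matrices over `K` preserving `QK` gives, along a ring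
isomorphism `e : K ≃+* F`, a hom to the isometry group of `QF`. -/
noncomputable def homIsometry {ι : Type} [Fintype ι] [DecidableEq ι] {K F : Type*} [Field K] [Field F]
    {H : Type*} [Group H] (e : K ≃+* F) (QK : (ι → K) → K) (QF : (ι → F) → F)
    (hQ : ∀ w : ι → K, QF (fun i => e (w i)) = e (QK w))
    (ρ : H →* Matrix ι ι K) (hρ : ∀ h v, QK (ρ h *ᵥ v) = QK v) :
    H →* Cfsg.isometryGroup F QF :=
  MonoidHom.codRestrict
    (((e : K →+* F).mapMatrix (m := ι)).toMonoidHom.comp ρ).toHomUnits
    (Cfsg.isometryGroup F QF) (by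
      intro h
      rw [mem_isometryGroup_iff]
      intro u
      have hu : u = fun i => e (e.symm (u i)) := by
        funext i
        simp
      have h1 : ((((e : K →+* F).mapMatrix (m := ι)).toMonoidHom.comp ρ).toHomUnits h :
          Matrix ι ι F) = (ρ h).map e := rfl
      rw [h1]
      have h2 : (ρ h).map e *ᵥ u = fun i => e ((ρ h *ᵥ fun j => e.symm (u j)) i) := by
        funext i
        have := RingHom.map_mulVec (e : K →+* F) (ρ h) (fun j => e.symm (u j)) i
        rw [RingEquiv.coe_toRingHom] at this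
        rw [this]
        congr 1
      rw [h2, hQ, hρ, ← hQ, ← hu])

theorem homIsometry_coe {ι : Type} [Fintype ι] [DecidableEq ι] {K F : Type*} [Field K] [Field F]
    {H : Type*} [Group H] (e : K ≃+* F) (QK : (ι → K) → K) (QF : (ι → F) → F)
    (hQ : ∀ w : ι → K, QF (fun i => e (w i)) = e (QK w))
    (ρ : H →* Matrix ι ι K) (hρ : ∀ h v, QK (ρ h *ᵥ v) = QK v) (h : H) :
    ((homIsometry e QK QF hQ ρ hρ h : Matrix.GeneralLinearGroup ι F) : Matrix ι ι F) =
      (ρ h).map e := rfl

theorem homIsometry_injective {ι : Type} [Fintype ι] [DecidableEq ι] {K F : Type*} [Field K]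
    [Field F] {H : Type*} [Group H] (e : K ≃+* F) (QK : (ι → K) → K) (QF : (ι → F) → F)
    (hQ : ∀ w : ι → K, QF (fun i => e (w i)) = e (QK w))
    (ρ : H →* Matrix ι ι K) (hρ : ∀ h v, QK (ρ h *ᵥ v) = QK v) (hinj : Function.Injective ρ) :
    Function.Injective (homIsometry e QK QF hQ ρ hρ) := by
  intro x y hxy
  apply hinj
  have h1 : (ρ x).map e = (ρ y).map e := by
    rw [← homIsometry_coe e QK QF hQ ρ hρ x, ← homIsometry_coe e QK QF hQ ρ hρ y, hxy]
  exact Matrix.map_injective e.injective h1

/-- injective hom between finite groups of the same order is an isomorphism -/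
theorem nonempty_mulEquiv_of_injective_of_card {A B : Type*} [Group A] [Group B] [Finite B]
    (f : A →* B) (hf : Function.Injective f) (hc : Nat.card A = Nat.card B) :
    Nonempty (B ≃* A) := by
  have : Finite A := Finite.of_injective f hf
  exact ⟨(MulEquiv.ofBijective f ((Nat.bijective_iff_injective_and_card f).2 ⟨hf, hc⟩)).symm⟩

end Cfsg.Agent.Lib.Helper6
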